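import Cfsg.Agent.Comp.Basic

/-!
# Kernel computations for `U11/NumA`
-/

set_option autoImplicit false

namespace Cfsg.Agent.U11

open Cfsg.Agent.Comp

/-- the product of the bounds -/
def nC (a b w : ℤ) : ℤ :=
  (b - a) ^ 9 * w ^ 10 * (a ^ 2 + a * b + b ^ 2) * (a ^ 2 + b ^ 2) ^ 2 * (a ^ 2 - a * b + b ^ 2) ^ 3 *
    (a ^ 4 - 4 * a ^ 3 * b + 8 * a ^ 2 * b ^ 2 - 4 * a * b ^ 3 + b ^ 4) *
    (a ^ 6 - 5 * a ^ 5 * b + 11 * a ^ 4 * b ^ 2 - 13 * a ^ 3 * b ^ 3 + 9 * a ^ 2 * b ^ 4 - 3 * a * b ^ 5 + b ^ 6) *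
    (a ^ 6 - 3 * a ^ 5 * b + 12 * a ^ 4 * b ^ 2 - 19 * a ^ 3 * b ^ 3 + 15 * a ^ 2 * b ^ 4 - 6 * a * b ^ 5 + b ^ 6) * b

/-- `(hp q - 1) / (q + 1)` for `q = 11 j + 10` -/
def nG (j : ℕ) : ℕ :=
  (11 * j + 11) ^ 8 * j + (11 * j + 11) ^ 6 * (55 * j + 40) + (11 * j + 11) ^ 4 * (330 * j + 288) +
    (11 * j + 11) ^ 2 * (462 * j + 432) + (165 * j + 160)

/-- `a * hp q - β` for `q = 11 j + 10` -/
def nM (a β j : ℕ) : ℕ :=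
  Nat.sub (Nat.mul a (Nat.div (Nat.succ (Nat.pow (Nat.add (Nat.mul 11 j) 10) 11)) (Nat.mul 121 (Nat.succ j)))) β

theorem nM_eq (a β j : ℕ) : nM a β j = a * ((11 * j + 11) * nG j + 1) - β := by
  have e : (11 * j + 10) ^ 11 + 1 = 121 * (j + 1) * ((11 * j + 11) * nG j + 1) := by
    rw [nG]
    ring
  change a * (((11 * j + 10) ^ 11 + 1) / (121 * (j + 1))) - β = _
  rw [e, Nat.mul_div_cancel_left _ (by omega)]

theorem nG_mono : Monotone nG := fun i j h => by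
  unfold nG
  gcongr

theorem nM_mono (a β : ℕ) : Monotone (nM a β) := fun i j h => by
  have := nG_mono h
  rw [nM_eq, nM_eq]
  gcongr

/-- no value of `f` divides `C` -/
noncomputable def nCk (C : ℤ) (f : ℕ → ℕ) (J : ℕ) : Bool :=
  force C.natAbs fun c => and' (Nat.ble 1 c) (and' (Nat.ble (Nat.succ c) (f J))
    (allBB J fun j => Nat.ble 1 (Nat.mod c (f j))))

theorem nCk_spec {C : ℤ} {f : ℕ → ℕ} {J : ℕ} (hf : Monotone f) (h : nCk C f J = true) (j : ℕ) :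
    ¬ (f j : ℤ) ∣ C := by
  simp only [nCk, force_eq, and'_eq_true, allBB_iff, ble_iff] at h
  obtain ⟨h1, h2, h3⟩ := h
  rw [Int.natCast_dvd]
  intro d
  rcases lt_or_ge j J with c | c
  · exact absurd ((h3 j c).trans_eq (Nat.mod_eq_zero_of_dvd d)) (by norm_num)
  · exact absurd ((h2.trans (hf c)).trans (Nat.le_of_dvd h1 d)) (Nat.not_succ_le_self _)

theorem nCk_G : nCk (nC 1 11 5) nG 13912 = true := by decide +kernel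

theorem nCk_1_2 : nCk (nC (1 : ℕ) (11 * (2 : ℕ)) ((1 : ℕ) - (2 : ℕ))) (nM 1 2) 13082 = true := by
  decide +kernel

theorem nCk_1_3 : nCk (nC (1 : ℕ) (11 * (3 : ℕ)) ((1 : ℕ) - (3 : ℕ))) (nM 1 3) 126647 = true := by
  decide +kernel

theorem nCk_2_1 : nCk (nC (2 : ℕ) (11 * (1 : ℕ)) ((2 : ℕ) - (1 : ℕ))) (nM 2 1) 637 = true := by
  decide +kernel

theorem nCk_2_3 : nCk (nC (2 : ℕ) (11 * (3 : ℕ)) ((2 : ℕ) - (3 : ℕ))) (nM 2 3) 54964 = true := by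
  decide +kernel

theorem nCk_3_1 : nCk (nC (3 : ℕ) (11 * (1 : ℕ)) ((3 : ℕ) - (1 : ℕ))) (nM 3 1) 1005 = true := by
  decide +kernel

theorem nCk_3_2 : nCk (nC (3 : ℕ) (11 * (2 : ℕ)) ((3 : ℕ) - (2 : ℕ))) (nM 3 2) 9463 = true := by
  decide +kernel

theorem nCk_4_1 : nCk (nC (4 : ℕ) (11 * (1 : ℕ)) ((4 : ℕ) - (1 : ℕ))) (nM 4 1) 1226 = true := by
  decide +kernel

theorem nCk_4_2 : nCk (nC (4 : ℕ) (11 * (2 : ℕ)) ((4 : ℕ) - (2 : ℕ))) (nM 4 2) 16577 = true := by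
  decide +kernel

theorem nCk_4_3 : nCk (nC (4 : ℕ) (11 * (3 : ℕ)) ((4 : ℕ) - (3 : ℕ))) (nM 4 3) 44460 = true := by
  decide +kernel

theorem nCk_5_1 : nCk (nC (5 : ℕ) (11 * (1 : ℕ)) ((5 : ℕ) - (1 : ℕ))) (nM 5 1) 1375 = true := by
  decide +kernel

theorem nCk_5_2 : nCk (nC (5 : ℕ) (11 * (2 : ℕ)) ((5 : ℕ) - (2 : ℕ))) (nM 5 2) 21991 = true := by
  decide +kernel

theorem nCk_5_3 : nCk (nC (5 : ℕ) (11 * (3 : ℕ)) ((5 : ℕ) - (3 : ℕ))) (nM 5 3) 81074 = true := by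
  decide +kernel

theorem nCk_6_1 : nCk (nC (6 : ℕ) (11 * (1 : ℕ)) ((6 : ℕ) - (1 : ℕ))) (nM 6 1) 1512 = true := by
  decide +kernel

theorem nCk_6_2 : nCk (nC (6 : ℕ) (11 * (2 : ℕ)) ((6 : ℕ) - (2 : ℕ))) (nM 6 2) 26143 = true := by
  decide +kernel

theorem nCk_6_3 : nCk (nC (6 : ℕ) (11 * (3 : ℕ)) ((6 : ℕ) - (3 : ℕ))) (nM 6 3) 111465 = true := by
  decide +kernel

theorem nCk_7_1 : nCk (nC (7 : ℕ) (11 * (1 : ℕ)) ((7 : ℕ) - (1 : ℕ))) (nM 7 1) 1636 = true := by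
  decide +kernel

theorem nCk_7_2 : nCk (nC (7 : ℕ) (11 * (2 : ℕ)) ((7 : ℕ) - (2 : ℕ))) (nM 7 2) 29358 = true := by
  decide +kernel

theorem nCk_7_3 : nCk (nC (7 : ℕ) (11 * (3 : ℕ)) ((7 : ℕ) - (3 : ℕ))) (nM 7 3) 136802 = true := by
  decide +kernel

theorem nCk_8_1 : nCk (nC (8 : ℕ) (11 * (1 : ℕ)) ((8 : ℕ) - (1 : ℕ))) (nM 8 1) 1667 = true := by
  decide +kernel

theorem nCk_8_2 : nCk (nC (8 : ℕ) (11 * (2 : ℕ)) ((8 : ℕ) - (2 : ℕ))) (nM 8 2) 31887 = true := by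
  decide +kernel

theorem nCk_8_3 : nCk (nC (8 : ℕ) (11 * (3 : ℕ)) ((8 : ℕ) - (3 : ℕ))) (nM 8 3) 157996 = true := by
  decide +kernel

theorem nCk_9_1 : nCk (nC (9 : ℕ) (11 * (1 : ℕ)) ((9 : ℕ) - (1 : ℕ))) (nM 9 1) 1507 = true := by
  decide +kernel

theorem nCk_9_2 : nCk (nC (9 : ℕ) (11 * (2 : ℕ)) ((9 : ℕ) - (2 : ℕ))) (nM 9 2) 33949 = true := by
  decide +kernel

theorem nCk_9_3 : nCk (nC (9 : ℕ) (11 * (3 : ℕ)) ((9 : ℕ) - (3 : ℕ))) (nM 9 3) 175787 = true := by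
  decide +kernel

theorem nCk_10_1 : nCk (nC (10 : ℕ) (11 * (1 : ℕ)) ((10 : ℕ) - (1 : ℕ))) (nM 10 1) 1035 = true := by
  decide +kernel

theorem nCk_10_2 : nCk (nC (10 : ℕ) (11 * (2 : ℕ)) ((10 : ℕ) - (2 : ℕ))) (nM 10 2) 35756 = true := by
  decide +kernel

theorem nCk_10_3 : nCk (nC (10 : ℕ) (11 * (3 : ℕ)) ((10 : ℕ) - (3 : ℕ))) (nM 10 3) 190787 = true := by
  decide +kernel

theorem nCk_11_2 : nCk (nC (11 : ℕ) (11 * (2 : ℕ)) ((11 : ℕ) - (2 : ℕ))) (nM 11 2) 37511 = true := by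
  decide +kernel

theorem nCk_11_3 : nCk (nC (11 : ℕ) (11 * (3 : ℕ)) ((11 : ℕ) - (3 : ℕ))) (nM 11 3) 203512 = true := by
  decide +kernel

theorem nG_not (j : ℕ) : ¬ (nG j : ℤ) ∣ nC 1 11 5 := nCk_spec nG_mono nCk_G j

theorem nM_not {a β : ℕ} (ha : 1 ≤ a) (ha' : a ≤ 11) (hβ : 1 ≤ β) (hβ' : β ≤ 3) (e : a ≠ β)
    (n : ¬ (a = 11 ∧ β = 1)) (j : ℕ) : ¬ (nM a β j : ℤ) ∣ nC a (11 * β) (a - β) := by
  interval_cases a <;> interval_cases β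
  · exact absurd rfl e
  · exact nCk_spec (nM_mono _ _) nCk_1_2 j
  · exact nCk_spec (nM_mono _ _) nCk_1_3 j
  · exact nCk_spec (nM_mono _ _) nCk_2_1 j
  · exact absurd rfl e
  · exact nCk_spec (nM_mono _ _) nCk_2_3 j
  · exact nCk_spec (nM_mono _ _) nCk_3_1 j
  · exact nCk_spec (nM_mono _ _) nCk_3_2 j
  · exact absurd rfl e
  · exact nCk_spec (nM_mono _ _) nCk_4_1 j
  · exact nCk_spec (nM_mono _ _) nCk_4_2 j
  · exact nCk_spec (nM_mono _ _) nCk_4_3 j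
  · exact nCk_spec (nM_mono _ _) nCk_5_1 j
  · exact nCk_spec (nM_mono _ _) nCk_5_2 j
  · exact nCk_spec (nM_mono _ _) nCk_5_3 j
  · exact nCk_spec (nM_mono _ _) nCk_6_1 j
  · exact nCk_spec (nM_mono _ _) nCk_6_2 j
  · exact nCk_spec (nM_mono _ _) nCk_6_3 j
  · exact nCk_spec (nM_mono _ _) nCk_7_1 j
  · exact nCk_spec (nM_mono _ _) nCk_7_2 j
  · exact nCk_spec (nM_mono _ _) nCk_7_3 j
  · exact nCk_spec (nM_mono _ _) nCk_8_1 j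
  · exact nCk_spec (nM_mono _ _) nCk_8_2 j
  · exact nCk_spec (nM_mono _ _) nCk_8_3 j
  · exact nCk_spec (nM_mono _ _) nCk_9_1 j
  · exact nCk_spec (nM_mono _ _) nCk_9_2 j
  · exact nCk_spec (nM_mono _ _) nCk_9_3 j
  · exact nCk_spec (nM_mono _ _) nCk_10_1 j
  · exact nCk_spec (nM_mono _ _) nCk_10_2 j
  · exact nCk_spec (nM_mono _ _) nCk_10_3 j
  · exact absurd ⟨rfl, rfl⟩ n
  · exact nCk_spec (nM_mono _ _) nCk_11_2 j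
  · exact nCk_spec (nM_mono _ _) nCk_11_3 j

end Cfsg.Agent.U11
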