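import Cfsg.Agent.C11.Simp

/-! Quasisimple groups with transvections fixing a unitary form (`U7.su_le_of_tv` with `¬ Thin G` in place of `2 ≠ 0`). -/

set_option autoImplicit false

namespace Cfsg.Agent.U11

open Cfsg.Geo Cfsg.Agent.Class Cfsg.Agent.Class.Asch Cfsg.Agent.Class.Dim5 Cfsg.Agent.Class.Max Matrix

variable {F : Type*} [Field F]

theorem su_le_of_thick [Finite F] {n : ℕ} {G : Subgroup (GL (Fin n) F)} (hG : QS G) (hn : 2 < n) (h2 : ¬ Thin G)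
    (ht : ∀ K : Subfield F, (∀ g ∈ G, (g : Matrix (Fin n) (Fin n) F).trace ∈ K) → K = ⊤)
    (hr : ∃ g ∈ G, ((g⁻¹ : GL (Fin n) F) : Matrix (Fin n) (Fin n) F).trace ≠ (g : Matrix (Fin n) (Fin n) F).trace)
    (h : ¬ NT G) {τ : F ≃+* F} {f : (Fin n → F) → (Fin n → F) → F} (hf : IsUnitaryForm τ f) (hI : G ≤ isoG f) :
    isoG f ⊓ specialLinear (Fin n) F ≤ G := by
  obtain ⟨v, φ, t⟩ := exists_TF h
  rcases tv_trichotomy hG t with ⟨L, hq, h⟩ | k2 | k3
  swap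
  · exact (h2 (thin_of_card k2)).elim
  swap
  · exact (k3.elim hG (by simpa using hn)).elim
  by_cases hs : Symm G L
  swap
  · simp only [Symm, not_forall] at hs
    obtain ⟨v, φ, w, ψ, a, b, c, d⟩ := hs
    exact inf_le_right.trans (h.sl_le ht a b d c)
  replace hI := le_isoG_iff.1 hI
  have := Fintype.ofFinite F
  obtain ⟨σ, hσ⟩ : ∃ σ : F →+* F, ∀ x, σ x = x ^ Nat.card L := by
    have := Fintype.ofFinite L
    exact ⟨FiniteField.frobeniusAlgHom L F, fun x => by simp [Nat.card_eq_fintype_card]⟩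
  have hL : ∀ x, x ∈ L ↔ σ x = x := fun x => by rw [mem_subfield_iff_pow, hσ]
  obtain ⟨u, χ, h0⟩ := h.ex
  have gen := (fam_Full G L).le_gens h.qs h0
  have k1 := fun g (hg : g ∈ G) =>
    (fam_Full G L).rf.trace_inv σ (fun a b => hs b a) (fun a b => (hL _).1 (h.mem' a b))
      (fun a b c => by rw [h.triple hs hL a b c]; ring) (gen hg)
  refine fun g hg => mem_of_EG_le hf ?_ g (mem_specialLinear.1 hg.2) hg.1
  have e : ∀ x, τ x = σ x := fun x =>
    (ht (RingHom.eqLocusField (τ : F →+* F) σ) (fun g hg =>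
      (trace_inv_of_fixesForm (isSesq_of_unitary hf) hf.nondegenerate hI hg).symm.trans (k1 g hg)) ▸
        Subfield.mem_top x : x ∈ RingHom.eqLocusField (τ : F →+* F) σ)
  have hL' : ∀ x, τ x = x → x ∈ L := fun x hx => (hL x).2 (e x ▸ hx)
  obtain ⟨v₁, φ₁, v₂, φ₂, v₃, φ₃, h1, h2, h3, k⟩ : ∃ v₁ φ₁ v₂ φ₂ v₃ φ₃, Full G L v₁ φ₁ ∧
      Full G L v₂ φ₂ ∧ Full G L v₃ φ₃ ∧ φ₁ ⬝ᵥ v₂ * φ₂ ⬝ᵥ v₃ * φ₃ ⬝ᵥ v₁ ∉ L := by
    by_contra! hn
    obtain ⟨g, hg, hne⟩ := hr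
    exact hne ((fam_Full G L).rf.trace_inv (RingHom.id F) (fun a b => hs b a)
      (fun _ _ => rfl) (fun a b c => by
        rw [RingHom.id_apply, ← (hL _).1 (hn _ _ _ _ _ _ a b c), h.triple hs hL a b c]; ring)
      (gen hg))
  obtain ⟨-, c₁, a1, b1, e1⟩ := TF.form hf hI ⟨h1.1, h1.hasT⟩
  obtain ⟨-, c₂, -, b2, e2⟩ := TF.form hf hI ⟨h2.1, h2.hasT⟩
  obtain ⟨-, c₃, -, b3, e3⟩ := TF.form hf hI ⟨h3.1, h3.hasT⟩
  refine Fm.EG_le_of_tri rfl (fun _ => rfl) (map_le_Iso hf hI) b1 a1 ?_ (fun W hW => ?_)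
    (h1.tvC hf hI hL') (h2.tvC hf hI hL') (h3.tvC hf hI hL') fun hβ => k (hL' _ ?_)
  · by_contra! hn
    classical
    have := Fintype.ofFinite L
    have : (Finset.univ : Finset L) ⊆ {0, 1} := fun x _ => by
      rw [Finset.mem_insert, Finset.mem_singleton, or_iff_not_imp_left]
      exact fun h => Subtype.ext (hn x ((e x).trans ((hL x).1 x.2)) fun h' => h (Subtype.ext h'))
    have := (Finset.card_le_card this).trans Finset.card_le_two
    rw [Finset.card_univ, ← Nat.card_eq_fintype_card] at this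
    omega
  · refine (fam_Full G L).sub_cases h.qs h0 W fun v φ t x hx a => hW v (t.tvC hf hI hL') x hx ?_
    obtain ⟨-, c, -, -, e⟩ := TF.form hf hI ⟨t.1, t.hasT⟩
    exact fun h => a (by rw [e, h, mul_zero])
  · rw [show ∀ c, (fmU hf).π c = c + τ c from fun _ => rfl] at b1 b2 b3 hβ
    rw [e1, e2, e3]
    simp only [map_mul, map_neg, eq_neg_of_add_eq_zero_right b1, eq_neg_of_add_eq_zero_right b2,
      eq_neg_of_add_eq_zero_right b3] at hβ ⊢
    linear_combination (c₁ * c₂ * c₃) * hβ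

end Cfsg.Agent.U11
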